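import Cfsg.Agent.Lib.Helper48.X27.Defs

/-!
# Project X27 (S5998): sub-split of package [STD]

`PkgStd` from `PkgStdGrp` (group theory of order 27), `PkgStdEig` + `PkgStdBas` (linear algebra)
and `PkgStdCnt` (counting).
-/

set_option autoImplicit false

open scoped MatrixGroups

namespace Cfsg.Agent.Lib.Helper48.X27

universe u

/-- [STD-GRP] a non-abelian group of order 27 has non-commuting `a`, `b` with central
commutator. -/
def PkgStdGrp : Prop :=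
  ∀ {G : Type u} [Group G], Nat.card G = 27 → ¬ IsMulCommutative G →
    ∃ a b : G, a * b ≠ b * a ∧ ∀ g : G, g * (a * b * a⁻¹ * b⁻¹) = (a * b * a⁻¹ * b⁻¹) * g

/-- [STD-EIG] commuting matrices `a`, `c` of order dividing 3 with `c ≠ 1` have a common
eigenvector on which `c` is a primitive cube root of unity. -/
def PkgStdEig : Prop :=
  ∀ {F : Type u} [Field F] (ω₀ : F), ω₀ ≠ 1 → ω₀ ^ 3 = 1 →
    ∀ a c : Matrix (Fin 3) (Fin 3) F, a ^ 3 = 1 → c ^ 3 = 1 → c ≠ 1 → c * a = a * c →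
      ∃ (v : Fin 3 → F) (μ l : F), v ≠ 0 ∧ μ ≠ 1 ∧ μ ^ 3 = 1 ∧ l ^ 3 = 1 ∧
        Matrix.mulVec c v = μ • v ∧ Matrix.mulVec a v = l • v

/-- [STD-BAS] from a common eigenvector to the standard basis: `c = μ`, `a ↦ A_μ`, `b ↦ B`. -/
def PkgStdBas : Prop :=
  ∀ {F : Type u} [Field F] (a b c : Matrix (Fin 3) (Fin 3) F) (v : Fin 3 → F) (μ l : F),
    v ≠ 0 → μ ≠ 1 → μ ^ 3 = 1 → l ^ 3 = 1 → Matrix.mulVec c v = μ • v →
    Matrix.mulVec a v = l • v → b ^ 3 = 1 → a * b = c * b * a → c * b = b * c →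
    ∃ h : GL (Fin 3) F, c = μ • (1 : Matrix (Fin 3) (Fin 3) F) ∧
      a * (h : Matrix (Fin 3) (Fin 3) F) = (h : Matrix (Fin 3) (Fin 3) F) * matA μ ∧
      b * (h : Matrix (Fin 3) (Fin 3) F) = (h : Matrix (Fin 3) (Fin 3) F) * matB

/-- [STD-LIN] = [STD-EIG] + [STD-BAS]. -/
def PkgStdLin : Prop :=
  ∀ {F : Type u} [Field F] (ω₀ : F), ω₀ ≠ 1 → ω₀ ^ 3 = 1 →
    ∀ a b c : Matrix (Fin 3) (Fin 3) F, a ^ 3 = 1 → b ^ 3 = 1 → c ^ 3 = 1 → c ≠ 1 →
      a * b = c * b * a → c * a = a * c → c * b = b * c →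
      ∃ (h : GL (Fin 3) F) (ω : F), ω ≠ 1 ∧ ω ^ 3 = 1 ∧
        c = ω • (1 : Matrix (Fin 3) (Fin 3) F) ∧
        a * (h : Matrix (Fin 3) (Fin 3) F) = (h : Matrix (Fin 3) (Fin 3) F) * matA ω ∧
        b * (h : Matrix (Fin 3) (Fin 3) F) = (h : Matrix (Fin 3) (Fin 3) F) * matB

/-- [STD-CNT] a subgroup of order 27 containing `a`, `b`, `c` which are `A_ω`, `B`, `ω` in the
basis `h` is the standard group. -/
def PkgStdCnt : Prop :=
  ∀ {F : Type u} [Field F] (R : Subgroup (GL (Fin 3) F)) (h : GL (Fin 3) F) (ω : F)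
    (a b c : GL (Fin 3) F), Nat.card R = 27 → ω ≠ 1 → ω ^ 3 = 1 → a ∈ R → b ∈ R → c ∈ R →
    (c : Matrix (Fin 3) (Fin 3) F) = ω • (1 : Matrix (Fin 3) (Fin 3) F) →
    ((h⁻¹ * a * h : GL (Fin 3) F) : Matrix (Fin 3) (Fin 3) F) = matA ω →
    ((h⁻¹ * b * h : GL (Fin 3) F) : Matrix (Fin 3) (Fin 3) F) = matB →
    IsStd R h ω

theorem pkgStdLin_of (hEig : PkgStdEig.{u}) (hBas : PkgStdBas.{u}) : PkgStdLin.{u} := by
  intro F _ ω₀ h1 h3 a b c ha hb hc hc1 hab hca hcb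
  obtain ⟨v, μ, l, hv, hμ1, hμ3, hl3, hcv, hav⟩ := hEig ω₀ h1 h3 a c ha hc hc1 hca
  obtain ⟨h, e1, e2, e3⟩ := hBas a b c v μ l hv hμ1 hμ3 hl3 hcv hav hb hab hcb
  exact ⟨h, μ, hμ1, hμ3, e1, e2, e3⟩

theorem pkgStd_of (hGrp : PkgStdGrp.{u}) (hLin : PkgStdLin.{u}) (hCnt : PkgStdCnt.{u}) :
    PkgStd.{u} := by
  intro F _ ω₀ h1 h3 R hR hRe hRna
  obtain ⟨a, b, hab, hcen⟩ := hGrp (G := ↥R) hR hRna
  have hpow : ∀ g : ↥R, g ^ 3 = 1 := by
    intro g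
    have := Monoid.pow_exponent_eq_one g
    rwa [hRe] at this
  have hpowM : ∀ g : ↥R, ((g : GL (Fin 3) F) : Matrix (Fin 3) (Fin 3) F) ^ 3 = 1 := by
    intro g
    have := congrArg (fun t : ↥R => ((t : GL (Fin 3) F) : Matrix (Fin 3) (Fin 3) F)) (hpow g)
    simpa using this
  set c : ↥R := a * b * a⁻¹ * b⁻¹ with hcdef
  have hc1 : c ≠ 1 := by
    intro hc
    apply hab
    have : a * b = c * b * a := by rw [hcdef]; group
    rw [this, hc, one_mul]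
  have habc : a * b = c * b * a := by rw [hcdef]; group
  have toM : ∀ x y : ↥R, x = y →
      ((x : GL (Fin 3) F) : Matrix (Fin 3) (Fin 3) F) = ((y : GL (Fin 3) F) : Matrix (Fin 3) (Fin 3) F) :=
    fun x y e => by rw [e]
  have hc1M : ((c : GL (Fin 3) F) : Matrix (Fin 3) (Fin 3) F) ≠ 1 := by
    intro hc
    apply hc1
    apply Subtype.ext
    apply Units.ext
    simpa using hc
  obtain ⟨h, ω, hω1, hω3, hcω, hah, hbh⟩ := hLin ω₀ h1 h3
    ((a : GL (Fin 3) F) : Matrix (Fin 3) (Fin 3) F) ((b : GL (Fin 3) F) : Matrix (Fin 3) (Fin 3) F)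
    ((c : GL (Fin 3) F) : Matrix (Fin 3) (Fin 3) F) (hpowM a) (hpowM b) (hpowM c) hc1M
    (by simpa using toM _ _ habc) (by simpa using toM _ _ (hcen a).symm)
    (by simpa using toM _ _ (hcen b).symm)
  refine ⟨h, ω, hCnt R h ω a b c hR hω1 hω3 a.2 b.2 c.2 hcω ?_ ?_⟩
  · simp only [Units.val_mul]
    rw [mul_assoc, hah, ← mul_assoc]
    simp
  · simp only [Units.val_mul]
    rw [mul_assoc, hbh, ← mul_assoc]
    simp

end Cfsg.Agent.Lib.Helper48.X27
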